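import Mathlib.RingTheory.Flat.Basic
import Mathlib.RingTheory.Localization.BaseChange
import Mathlib.LinearAlgebra.TensorProduct.Pi
import Mathlib.RingTheory.Localization.Away.Basic

/-!
# An equaliser of localisations stays an equaliser after tensoring with a flat module
-/

set_option autoImplicit false
set_option linter.all false

universe u

open scoped TensorProduct

namespace Groth.Agent.FlatHartogsLib

variable {R : Type u} [CommRing R] {M : Type u} [AddCommGroup M] [Module R M]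

theorem isUnit_left_of_mul {N : Type u} [AddCommGroup N] [Module R N] (a b : R) {A : Type u}
    [AddCommGroup A] [Module R A] (g : A →ₗ[R] N) [IsLocalizedModule (Submonoid.powers (a * b)) g]
    (x : Submonoid.powers a) : IsUnit (algebraMap R (Module.End R N) x) := by
  obtain ⟨_, n, rfl⟩ := x
  simp only [map_pow]
  refine IsUnit.pow n ?_
  have h := IsLocalizedModule.map_units g
    (⟨a * b, Submonoid.mem_powers (a * b)⟩ : Submonoid.powers (a * b))
  rw [map_mul] at h
  exact ((show Commute (algebraMap R (Module.End R N) a) (algebraMap R (Module.End R N) b) from Algebra.commutes a _).isUnit_mul_iff.mp h).1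

/-- `P ⊗ M ≅ N` for localisations `P` of `R` and `N` of `M` at the same submonoid. -/
theorem exists_equiv (S : Submonoid R) {P N : Type u} [AddCommGroup P] [Module R P]
    [AddCommGroup N] [Module R N] (gP : R →ₗ[R] P) [IsLocalizedModule S gP]
    (gN : M →ₗ[R] N) [IsLocalizedModule S gN] :
    ∃ e : P ⊗[R] M ≃ₗ[R] N, ∀ (r : R) (m : M), e (gP r ⊗ₜ m) = r • gN m := by
  haveI : IsLocalizedModule S (LinearMap.rTensor M gP) := by
    have h : IsLocalizedModule S (TensorProduct.AlgebraTensorModule.rTensor R M gP) := inferInstance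
    exact h
  haveI : IsLocalizedModule S (gN ∘ₗ (TensorProduct.lid R M).toLinearMap) := inferInstance
  refine ⟨IsLocalizedModule.linearEquiv S (LinearMap.rTensor M gP)
    (gN ∘ₗ (TensorProduct.lid R M).toLinearMap), fun r m => ?_⟩
  have h := IsLocalizedModule.linearEquiv_apply S (LinearMap.rTensor M gP)
    (gN ∘ₗ (TensorProduct.lid R M).toLinearMap) (r ⊗ₜ m)
  simpa using h

variable {ι : Type u} [Finite ι] (f : ι → R)
  {P : ι → Type u} [∀ i, AddCommGroup (P i)] [∀ i, Module R (P i)]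
  {P₂ : ι → ι → Type u} [∀ i j, AddCommGroup (P₂ i j)] [∀ i j, Module R (P₂ i j)]
  {N : ι → Type u} [∀ i, AddCommGroup (N i)] [∀ i, Module R (N i)]
  {N₂ : ι → ι → Type u} [∀ i j, AddCommGroup (N₂ i j)] [∀ i j, Module R (N₂ i j)]

theorem bijective_of_flat [Module.Flat R M]
    (gP : ∀ i, R →ₗ[R] P i) (hP : ∀ i, IsLocalizedModule (Submonoid.powers (f i)) (gP i))
    (gP₂ : ∀ i j, R →ₗ[R] P₂ i j) (hP₂ : ∀ i j, IsLocalizedModule (Submonoid.powers (f i * f j)) (gP₂ i j))
    (gN : ∀ i, M →ₗ[R] N i) (hN : ∀ i, IsLocalizedModule (Submonoid.powers (f i)) (gN i))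
    (gN₂ : ∀ i j, M →ₗ[R] N₂ i j) (hN₂ : ∀ i j, IsLocalizedModule (Submonoid.powers (f i * f j)) (gN₂ i j))
    (rP : ∀ i j, P i →ₗ[R] P₂ i j) (hrP : ∀ i j r, rP i j (gP i r) = gP₂ i j r)
    (rP' : ∀ i j, P j →ₗ[R] P₂ i j) (hrP' : ∀ i j r, rP' i j (gP j r) = gP₂ i j r)
    (rN : ∀ i j, N i →ₗ[R] N₂ i j) (hrN : ∀ i j m, rN i j (gN i m) = gN₂ i j m)
    (rN' : ∀ i j, N j →ₗ[R] N₂ i j) (hrN' : ∀ i j m, rN' i j (gN j m) = gN₂ i j m)
    (hinj : ∀ r : R, (∀ i, gP i r = 0) → r = 0)
    (hsurj : ∀ x : ∀ i, P i, (∀ i j, rP i j (x i) = rP' i j (x j)) → ∃ r, ∀ i, gP i r = x i) :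
    (∀ m : M, (∀ i, gN i m = 0) → m = 0) ∧
      (∀ y : ∀ i, N i, (∀ i j, rN i j (y i) = rN' i j (y j)) → ∃ m, ∀ i, gN i m = y i) := by
  classical
  haveI := Fintype.ofFinite ι
  let α : R →ₗ[R] ∀ i, P i := LinearMap.pi gP
  let β : (∀ i, P i) →ₗ[R] ∀ p : ι × ι, P₂ p.1 p.2 :=
    LinearMap.pi fun p => (rP p.1 p.2).comp (LinearMap.proj p.1) - (rP' p.1 p.2).comp (LinearMap.proj p.2)
  have hαi : Function.Injective α := (injective_iff_map_eq_zero α).mpr fun r hr =>
    hinj r fun i => congrFun hr i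
  have hex : Function.Exact α β := by
    intro x
    constructor
    · intro hx
      obtain ⟨r, hr⟩ := hsurj x fun i j => sub_eq_zero.mp (congrFun hx (i, j))
      exact ⟨r, funext hr⟩
    · rintro ⟨r, rfl⟩
      funext p
      simp [α, β, hrP, hrP']
  have hex' := Module.Flat.rTensor_exact M hex
  have hinj' := Module.Flat.rTensor_preserves_injective_linearMap (M := M) α hαi
  choose e he using fun i => exists_equiv (M := M) (Submonoid.powers (f i)) (gP i) (gN i)
    (P := P i) (N := N i)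
  choose e₂ he₂ using fun i j => exists_equiv (M := M) (Submonoid.powers (f i * f j)) (gP₂ i j) (gN₂ i j)
    (P := P₂ i j) (N := N₂ i j)
  have htr : ∀ i j, (rN i j) ∘ₗ (e i).toLinearMap =
      (e₂ i j).toLinearMap ∘ₗ LinearMap.rTensor M (rP i j) := by
    intro i j
    haveI : IsLocalizedModule (Submonoid.powers (f i)) (LinearMap.rTensor M (gP i)) := by
      have h : IsLocalizedModule (Submonoid.powers (f i))
        (TensorProduct.AlgebraTensorModule.rTensor R M (gP i)) := inferInstance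
      exact h
    refine IsLocalizedModule.ext (Submonoid.powers (f i)) (LinearMap.rTensor M (gP i))
      (isUnit_left_of_mul (f i) (f j) (gN₂ i j)) ?_
    ext m
    simp [he, he₂, hrP, hrN]
  have htr' : ∀ i j, (rN' i j) ∘ₗ (e j).toLinearMap =
      (e₂ i j).toLinearMap ∘ₗ LinearMap.rTensor M (rP' i j) := by
    intro i j
    haveI : IsLocalizedModule (Submonoid.powers (f j)) (LinearMap.rTensor M (gP j)) := by
      have h : IsLocalizedModule (Submonoid.powers (f j))
        (TensorProduct.AlgebraTensorModule.rTensor R M (gP j)) := inferInstance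
      exact h
    haveI : IsLocalizedModule (Submonoid.powers (f j * f i)) (gN₂ i j) := by
      rw [mul_comm]; exact hN₂ i j
    refine IsLocalizedModule.ext (Submonoid.powers (f j)) (LinearMap.rTensor M (gP j))
      (isUnit_left_of_mul (f j) (f i) (gN₂ i j)) ?_
    ext m
    simp [he, he₂, hrP', hrN']
  let Φ : (∀ i, P i) ⊗[R] M ≃ₗ[R] ∀ i, N i :=
    (TensorProduct.comm R _ M) ≪≫ₗ (TensorProduct.piRight R R M P) ≪≫ₗ
      (LinearEquiv.piCongrRight fun i => (TensorProduct.comm R M (P i)) ≪≫ₗ e i)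
  have hΦ : ∀ x m i, Φ (x ⊗ₜ m) i = e i (x i ⊗ₜ m) := fun x m i => by simp [Φ]
  have hΦα : ∀ m : M, Φ (LinearMap.rTensor M α (1 ⊗ₜ m)) = fun i => gN i m := by
    intro m
    funext i
    rw [LinearMap.rTensor_tmul, hΦ]
    simp [α, he]
  refine ⟨fun m hm => ?_, fun y hy => ?_⟩
  · have h0 : LinearMap.rTensor M α (1 ⊗ₜ m) = 0 := Φ.injective (by
      rw [hΦα, map_zero]
      exact funext hm)
    have h1 := congrArg (TensorProduct.lid R M) (hinj' (h0.trans (map_zero _).symm))
    simpa using h1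
  · let Ψ : (∀ p : ι × ι, P₂ p.1 p.2) ⊗[R] M ≃ₗ[R] ∀ p : ι × ι, N₂ p.1 p.2 :=
      (TensorProduct.comm R _ M) ≪≫ₗ (TensorProduct.piRight R R M _) ≪≫ₗ
        (LinearEquiv.piCongrRight fun p => (TensorProduct.comm R M (P₂ p.1 p.2)) ≪≫ₗ e₂ p.1 p.2)
    have hβ : ∀ z p, Ψ (LinearMap.rTensor M β z) p =
        rN p.1 p.2 (Φ z p.1) - rN' p.1 p.2 (Φ z p.2) := by
      intro z p
      induction z using TensorProduct.induction_on with
      | zero => simp
      | tmul x m =>
        have a1 := LinearMap.congr_fun (htr p.1 p.2) (x p.1 ⊗ₜ m)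
        have a2 := LinearMap.congr_fun (htr' p.1 p.2) (x p.2 ⊗ₜ m)
        simp only [LinearMap.comp_apply, LinearEquiv.coe_coe, LinearMap.rTensor_tmul] at a1 a2
        rw [hΦ, hΦ, a1, a2, ← map_sub, ← TensorProduct.sub_tmul, LinearMap.rTensor_tmul]
        simp [Ψ, β]
      | add a b ha hb =>
        simp only [map_add, Pi.add_apply, ha, hb]
        abel
    have h0 : LinearMap.rTensor M β (Φ.symm y) = 0 := Ψ.injective (by
      funext p
      rw [hβ, LinearEquiv.apply_symm_apply, map_zero]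
      exact sub_eq_zero.mpr (hy p.1 p.2))
    obtain ⟨z, hz⟩ := (hex' _).mp h0
    obtain ⟨m, rfl⟩ : ∃ m, (1 : R) ⊗ₜ[R] m = z :=
      ⟨TensorProduct.lid R M z, by rw [← TensorProduct.lid_symm_apply, LinearEquiv.symm_apply_apply]⟩
    refine ⟨m, fun i => ?_⟩
    have h1 := congrArg Φ hz
    rw [hΦα, LinearEquiv.apply_symm_apply] at h1
    exact congrFun h1 i

end Groth.Agent.FlatHartogsLib
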